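import Groth.Agent.GenusZeroModLib.Refine
import Groth.Agent.GenusPushLib.Main
import Groth.Agent.PurBirLib.Qf
import Groth.Agent.MinModLib.Unique
import Groth.Agent.GenusZeroLib.Line
import Groth.Agent.S3320
import Groth.Agent.S13316

/-!
# Minimal surfaces of genus zero
-/

set_option autoImplicit false
set_option linter.style.haveILetI false
set_option linter.unusedSectionVars false
set_option maxHeartbeats 4000000
set_option backward.isDefEq.respectTransparency false
set_option backward.isDefEq.respectTransparency.types false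
universe u

open CategoryTheory CategoryTheory.Limits AlgebraicGeometry TopologicalSpace Topology IsLocalRing
open CubeConsLib PtBlowFactLib MinModLib
open KFlatLib (pb)

noncomputable section

namespace GenusZeroModLib

variable {R : Type u} [CommRing R] [IsDomain R] [IsDiscreteValuationRing R]

theorem ker_fibre (X : Over (Spec (CommRingCat.of R))) :
    Models.specialFibreIdeal R X = (pullback.fst X.hom (Spec.map (CommRingCat.ofHom (residue R)))).ker := by
  haveI : IsClosedImmersion (Spec.map (CommRingCat.ofHom (residue R))) :=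
    IsClosedImmersion.spec_of_surjective _ residue_surjective
  rw [← VertChiLib.comap_ker, VertChiLib.ker_specMap, IsLocalRing.ker_residue]
  rfl

theorem genPt_eq_of_range {X : Over (Spec (CommRingCat.of R))} (C D : ArSurf.VertComp R X)
    (h : Set.range (C.ι.base : C.curve.left → X.left) = Set.range (D.ι.base : D.curve.left → X.left)) :
    Models.genPtOf R X C = Models.genPtOf R X D := by
  rw [VertIntLib.range_eq_closure, VertIntLib.range_eq_closure] at h
  exact (inseparable_iff_closure_eq.2 h).eq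

/-- The Euler characteristic of a generic fibre of genus zero. -/
theorem euler_generic_eq_one {X : Over (Spec (CommRingCat.of R))} (hX : ArSurf.IsArithSurface R X) {C : Scheme.{u}}
    {f : C ⟶ Spec (CommRingCat.of (FractionRing R))} {g : C ⟶ X.left}
    (hg : IsPullback g f X.hom (Neron.genPt R)) (hC : Curve.IsSmoothProperCurve (FractionRing R) C f)
    (hH0 : IsIso f.appTop) (hgen : Models.curveGenus (FractionRing R) C f = 0) :
    FGA.eulerCharLE (FractionRing R) ((Neron.genericFibre R).obj X).left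
      (Coh.structureModule ((Neron.genericFibre R).obj X).left) 1 = 1 := by
  obtain ⟨hXi, hXp, hXn⟩ := surf_instances hX
  haveI := hXp
  letI : C.Over (Spec (CommRingCat.of (FractionRing R))) := ⟨f⟩
  haveI : IsProper (C ↘ Spec (CommRingCat.of (FractionRing R))) := hC.1
  letI : (pullback X.hom (Neron.genPt R)).Over (Spec (CommRingCat.of (FractionRing R))) :=
    ⟨((Neron.genericFibre R).obj X).hom⟩
  haveI : IsProper ((pullback X.hom (Neron.genPt R)) ↘ Spec (CommRingCat.of (FractionRing R))) :=
    inferInstanceAs (IsProper (pullback.snd X.hom (Neron.genPt R)))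
  have hd : topologicalKrullDim ↥(pullback X.hom (Neron.genPt R)) ≤ ((1 : ℕ) : WithBot ℕ∞) := by
    refine le_of_le_of_eq ?_ hC.2.2.2
    exact (hg.isoPullback.symm.hom.homeomorph.isInducing.topologicalKrullDim_le)
  haveI : Coh.IsQCoh (Coh.structureModule (pullback X.hom (Neron.genPt R))) := QCohLib.isQCoh_unit
  have h := (VertChiLib.euler_iso (F := FractionRing R) hg.isoPullback hg.isoPullback_hom_snd
    (Coh.structureModule (pullback X.hom (Neron.genPt R)))).2
  have h' := VertChiLib.euler_curve hC hH0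
  show FGA.eulerCharLE (FractionRing R) (pullback X.hom (Neron.genPt R)) (Coh.structureModule _) 1 = 1
  rw [HilbPolyLib.eulerCharLE_eq (k := FractionRing R) hd, ← h]
  refine h'.trans ?_
  rw [hgen]; rfl

/-- A genus zero surface without exceptional curves has an irreducible reduced closed fibre. -/
theorem minimal_numbers {X : Over (Spec (CommRingCat.of R))} (hX : ArSurf.IsArithSurface R X) {C : Scheme.{u}}
    {f : C ⟶ Spec (CommRingCat.of (FractionRing R))} {g : C ⟶ X.left}
    (hg : IsPullback g f X.hom (Neron.genPt R)) (hC : Curve.IsSmoothProperCurve (FractionRing R) C f)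
    (hH0 : IsIso f.appTop) (hgen : Models.curveGenus (FractionRing R) C f = 0)
    (hne : ∀ E : ArSurf.VertComp R X, ¬ Models.IsExcCurve E.ι) (D : ArSurf.VertComp R X) (L : X.left.Modules)
    (hL : ClSub.IsInverseOf L (ClSub.idealMod D.ι.ker)) (ω : X.left.Modules) (hω : Canon.IsCanonical X.hom ω) :
    D.ι.ker = Models.specialFibreIdeal R X ∧ Models.h1 R X D = 0 ∧ Models.wdeg R X D = 1 ∧
      ArSurf.inter R X L D = 0 ∧ ArSurf.inter R X ω D = -2 := by
  classical
  obtain ⟨hXi, hXp, hXn⟩ := surf_instances hX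
  haveI := hXi; haveI := hXp; haveI := hXn
  haveI := hX.2.2.2.1
  have hRPM : Models.IsRegularProperModel R X.left X.hom C f :=
    ⟨⟨hX.2.2.2.1, inferInstance, inferInstance, g, hg⟩, hXp, hX.1⟩
  have hχ := euler_generic_eq_one hX hg hC hH0 hgen
  obtain ⟨n, Γ, hΓ⟩ := VertChiLib.exists_list_of_dim_two (X := X) hX.2.2.1
  choose Ls hLs using fun i => MinModLib.exists_inverse_curve hX (Γ i)
  have h316 := Groth.Agent.S13316.result R X hX Γ hΓ ω hω
  rw [hχ] at h316
  obtain ⟨i₀, hi₀⟩ : ∃ i, ArSurf.inter R X ω (Γ i) < 0 := by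
    by_contra h
    simp only [not_exists, not_lt] at h
    have h2 : (0 : ℤ) ≤ ∑ i, (Models.mult R X (Γ i) : ℤ) * ArSurf.inter R X ω (Γ i) :=
      Finset.sum_nonneg fun i _ => mul_nonneg (Int.natCast_nonneg _) (h i)
    omega
  have hself : 0 ≤ ArSurf.inter R X (Ls i₀) (Γ i₀) :=
    not_lt.1 fun h => hne _ (MinModLib.isExc_of_neg hX _ _ (hLs i₀) ω hω hi₀ h)
  let a : Fin n → ℤ := Pi.single i₀ 1
  have h320 := Groth.Agent.S3320.result R C X.left f X.hom hC hH0 hRPM Γ hΓ Ls hLs a
  have hsum : (∑ q : Fin n × Fin n, a q.1 * a q.2 * ArSurf.inter R X (Ls q.2) (Γ q.1)) =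
      ArSurf.inter R X (Ls i₀) (Γ i₀) := by
    rw [Fintype.sum_eq_single (i₀, i₀) fun q hq => ?_]
    · simp [a]
    · by_cases h1 : q.1 = i₀
      · have h2 : q.2 ≠ i₀ := fun h2 => hq (Prod.ext h1 h2)
        simp [a, h2]
      · simp [a, h1]
  obtain ⟨c, hc⟩ := h320.2.1 (le_antisymm h320.1 (hsum.ge.trans' hself))
  have hall : ∀ i, i = i₀ := fun i => by
    by_contra h
    have e1 := hc i
    have e2 := hc i₀
    simp only [a, Pi.single_eq_of_ne h, Int.cast_zero, Pi.single_eq_same, Int.cast_one] at e1 e2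
    rcases mul_eq_zero.1 e1.symm with h' | h'
    · rw [h', zero_mul] at e2; exact one_ne_zero e2
    · exact (VertIntLib.mult_pos hX.1 hΓ i).ne' (by exact_mod_cast h')
  have hDl : Models.IsComponentList R X (fun _ : Fin 1 => D) := by
    refine ⟨Function.injective_of_subsingleton _, ?_⟩
    have hD := MinModLib.range_mem_fibreComponents hX D
    rw [← hΓ.2] at hD ⊢
    obtain ⟨i, hi⟩ := hD
    ext S
    constructor
    · rintro ⟨-, rfl⟩; exact ⟨i, hi⟩
    · rintro ⟨j, rfl⟩
      exact ⟨0, hi.symm.trans (congrArg (fun k => Set.range ((Γ k).ι.base : (Γ k).curve.left → X.left))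
        ((hall i).trans (hall j).symm))⟩
  have hm := VertIntLib.mult_pos hX.1 hDl (0 : Fin 1)
  have hD316 := Groth.Agent.S13316.result R X hX (fun _ : Fin 1 => D) hDl ω hω
  rw [hχ, Fin.sum_univ_one] at hD316
  have hcol := VertIntLib.list_col hX.1 hDl (L := fun _ : Fin 1 => L) (fun _ => hL) (0 : Fin 1)
  rw [Fin.sum_univ_one] at hcol
  have hLD : ArSurf.inter R X L D = 0 :=
    (mul_eq_zero.1 hcol).resolve_left (by exact_mod_cast hm.ne')
  have hadj := RegConLib.inter_add_inter_cst hX D L hL ω hω
  rw [hLD, zero_add] at hadj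
  rw [hadj] at hD316
  have h3 : (Models.mult R X D : ℤ) * VertChiLib.cst D = 1 := by linarith
  have hm1 : (Models.mult R X D : ℤ) = 1 := Int.eq_one_of_mul_eq_one_right (Int.natCast_nonneg _) h3
  have hm1' : Models.mult R X D = 1 := by exact_mod_cast hm1
  rw [hm1, one_mul] at h3
  obtain ⟨hw, hdvd, -⟩ := VertChiLib.dvd_inter D
  obtain ⟨t, ht⟩ := hdvd
  have h4 : (Models.wdeg R X D : ℤ) * (1 - (t : ℤ)) = 1 := by
    have h5 := h3
    rw [VertChiLib.cst, ht] at h5
    push_cast at h5
    linarith
  have hw1 : (Models.wdeg R X D : ℤ) = 1 := Int.eq_one_of_mul_eq_one_right (Int.natCast_nonneg _) h4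
  rw [hw1, one_mul] at h4
  have ht0 : t = 0 := by omega
  refine ⟨?_, by rw [ht, ht0, mul_zero], by exact_mod_cast hw1, hLD, by rw [hadj, h3]; rfl⟩
  rw [VertIntLib.specialFibreIdeal_eq hX.1 hDl, Fin.prod_univ_one, hm1', pow_one]

theorem surjective_stalk {A B Y : Scheme.{u}} (φ : A ⟶ B) (j : B ⟶ Y) (i : A ⟶ Y) (h : φ ≫ j = i) (x : A)
    (hs : Function.Surjective (i.stalkMap x).hom) : Function.Surjective (φ.stalkMap x).hom := by
  subst h
  rw [Scheme.Hom.stalkMap_comp] at hs
  exact Function.Surjective.of_comp (g := (j.stalkMap (φ x)).hom) hs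

/-- A birational morphism onto a curve of the same genus from a curve with trivial constants is an
isomorphism. -/
theorem isIso_of_birational {k : Type u} [Field k] {A B : Scheme.{u}} [A.Over (Spec (CommRingCat.of k))]
    [B.Over (Spec (CommRingCat.of k))] [IsProper (A ↘ Spec (CommRingCat.of k))]
    [IsProper (B ↘ Spec (CommRingCat.of k))] [IsIntegral A] [IsIntegral B] (hB : topologicalKrullDim B = 1)
    (φ : A ⟶ B) (hφ : φ ≫ (B ↘ Spec (CommRingCat.of k)) = A ↘ Spec (CommRingCat.of k))
    (hgen : φ (genericPoint A) = genericPoint B) (hst : Function.Surjective (φ.stalkMap (genericPoint A)).hom)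
    (hw : Module.finrank k (Coh.HH A (Coh.structureModule A) 0) = 1)
    (hh : Curv2.genus k A = Curv2.genus k B) : IsIso φ := by
  haveI : IsProper (φ ≫ (B ↘ Spec (CommRingCat.of k))) := by rw [hφ]; infer_instance
  haveI : IsProper φ := IsProper.of_comp φ (B ↘ Spec (CommRingCat.of k))
  have hF : IsField (B.presheaf.stalk (φ (genericPoint A))) := by
    rw [hgen]; exact Field.toIsField B.functionField
  have hbir : PurBirLib.Bir φ := ⟨hgen, (ConcreteCategory.isIso_iff_bijective _).2
    ⟨by letI := hF.toField; exact RingHom.injective (φ.stalkMap (genericPoint A)).hom, hst⟩⟩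
  obtain ⟨U, hU, hUi⟩ := PurBirLib.exists_isIso_restrict φ hbir (genericPoint A) hbir.2
  haveI := hUi
  have hd : Dense (U : Set B) := U.isOpen.dense ⟨_, hU⟩
  have hd' : Dense ((φ ⁻¹ᵁ U : A.Opens) : Set A) := (φ ⁻¹ᵁ U).isOpen.dense ⟨genericPoint A, hU⟩
  have hdle : topologicalKrullDim B ≤ 1 := hB.le
  haveI := GenusPushLib.isFinite_of_birational (k := k) hdle φ hφ U hd hd'
  refine GenusPushLib.isIso_of_eq (k := k) hdle φ hφ U hd (fun s => ?_) hh
  let ρ : k →+* Γ(A, ⊤) := Coh.toGlobal (A ↘ Spec (CommRingCat.of k))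
  letI : Algebra k Γ(A, ⊤) := ρ.toAlgebra
  let e : Coh.HH A (Coh.structureModule A) 0 ≃ₗ[k] Γ(A, ⊤) :=
    { (show Coh.HH A (Coh.structureModule A) 0 ≃+ Γ(A, ⊤) from DegPullLib.e0 (Coh.structureModule A)) with
      map_smul' := fun r x => DegPullLib.e0_smul (Coh.structureModule A) _ x }
  obtain ⟨r, hr⟩ := (finrank_eq_one_iff_of_nonzero' (1 : Γ(A, ⊤)) one_ne_zero).1 (e.finrank_eq.symm.trans hw) s
  refine ⟨Coh.toGlobal (B ↘ Spec (CommRingCat.of k)) r, ?_⟩
  refine Eq.trans ?_ hr
  rw [Algebra.smul_def, mul_one]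
  show φ.appTop.hom ((B ↘ Spec (CommRingCat.of k)).appTop.hom _) = (A ↘ Spec (CommRingCat.of k)).appTop.hom _
  rw [← hφ, Scheme.Hom.comp_appTop]
  rfl

theorem fibre_iso {X : Over (Spec (CommRingCat.of R))} (D : ArSurf.VertComp R X)
    (s : Spec (CommRingCat.of (ResidueField R)) ⟶ Spec (CommRingCat.of R))
    (hs : s = Spec.map (CommRingCat.ofHom (residue R))) (hker : D.ι.ker = Models.specialFibreIdeal R X)
    {P : Scheme.{u}} {t : P ⟶ Spec (CommRingCat.of (ResidueField R))} (q : D.curve.left ≅ P)
    (hq : q.hom ≫ t = D.curve.left ↘ Spec (CommRingCat.of (ResidueField R))) :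
    ∃ e : pullback X.hom s ≅ P, e.hom ≫ t = pullback.snd X.hom s := by
  subst hs
  haveI hres : IsClosedImmersion (Spec.map (CommRingCat.ofHom (residue R))) :=
    IsClosedImmersion.spec_of_surjective _ residue_surjective
  have hk : D.ι.ker = (pullback.fst X.hom (Spec.map (CommRingCat.ofHom (residue R)))).ker :=
    hker.trans (ker_fibre X)
  let j := pullback.fst X.hom (Spec.map (CommRingCat.ofHom (residue R)))
  let a : D.curve.left ⟶ pullback X.hom (Spec.map (CommRingCat.ofHom (residue R))) :=
    IsClosedImmersion.lift j D.ι hk.ge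
  let b : pullback X.hom (Spec.map (CommRingCat.ofHom (residue R))) ⟶ D.curve.left :=
    IsClosedImmersion.lift D.ι j hk.le
  have ha : a ≫ j = D.ι := IsClosedImmersion.lift_fac _ _ _
  have hb : b ≫ D.ι = j := IsClosedImmersion.lift_fac _ _ _
  refine ⟨⟨b, a, by rw [← cancel_mono j, Category.assoc, ha, hb, Category.id_comp],
    by rw [← cancel_mono D.ι, Category.assoc, hb, ha, Category.id_comp]⟩ ≪≫ q, ?_⟩
  rw [Iso.trans_hom, Category.assoc, hq, ← cancel_mono (Spec.map (CommRingCat.ofHom (residue R))), Category.assoc,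
    VertIntLib.over_hom, ← Category.assoc, hb]
  exact pullback.condition

theorem line_transport {A B P S : Scheme.{u}} (φ : A ⟶ B) [IsIso φ] (e : A ≅ P) (t : P ⟶ S) (a : A ⟶ S) (b : B ⟶ S)
    (he : e.hom ≫ t = a) (hφ : φ ≫ b = a) : ∃ q : B ≅ P, q.hom ≫ t = b :=
  ⟨(asIso φ).symm ≪≫ e, by rw [Iso.trans_hom, Iso.symm_hom, asIso_inv, Category.assoc, he, ← hφ,
    IsIso.inv_hom_id_assoc]⟩

theorem wdeg_def {X : Over (Spec (CommRingCat.of R))} (E : ArSurf.VertComp R X) :
    Models.wdeg R X E =
      Module.finrank (ResidueField R) (Coh.HH E.curve.left (Coh.structureModule E.curve.left) 0) := rfl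

theorem genus_def {X : Over (Spec (CommRingCat.of R))} (E : ArSurf.VertComp R X) :
    Curv2.genus (ResidueField R) E.curve.left = Models.h1 R X E := rfl

theorem isIso_of_birational_vert {W X : Over (Spec (CommRingCat.of R))} (E : ArSurf.VertComp R W)
    (D : ArSurf.VertComp R X) (φ : E.curve.left ⟶ D.curve.left)
    [IsProper (E.curve.left ↘ Spec (CommRingCat.of (ResidueField R)))]
    [IsProper (D.curve.left ↘ Spec (CommRingCat.of (ResidueField R)))]
    (hover : φ ≫ (D.curve.left ↘ Spec (CommRingCat.of (ResidueField R))) =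
      E.curve.left ↘ Spec (CommRingCat.of (ResidueField R)))
    (hξ : φ (genericPoint E.curve.left) = genericPoint D.curve.left)
    (hsurj : Function.Surjective (φ.stalkMap (genericPoint E.curve.left)).hom) (hw1 : Models.wdeg R W E = 1)
    (hh : Models.h1 R W E = Models.h1 R X D) : IsIso φ :=
  isIso_of_birational D.dim_eq φ hover hξ hsurj ((wdeg_def E).symm.trans hw1)
    ((genus_def E).trans (hh.trans (genus_def D).symm))

/-- If an exceptional curve of a surface over a minimal one of genus zero is not contracted, the closed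
fibre below is a projective line. -/
theorem p1_of_exc {W X : Over (Spec (CommRingCat.of R))} (hW : ArSurf.IsArithSurface R W)
    (hX : ArSurf.IsArithSurface R X) {C : Scheme.{u}}
    {f : C ⟶ Spec (CommRingCat.of (FractionRing R))} {g : C ⟶ X.left}
    (hg : IsPullback g f X.hom (Neron.genPt R)) (hC : Curve.IsSmoothProperCurve (FractionRing R) C f)
    (hH0 : IsIso f.appTop) (hgen : Models.curveGenus (FractionRing R) C f = 0)
    (hne : ∀ E : ArSurf.VertComp R X, ¬ Models.IsExcCurve E.ι)
    (h : W ⟶ X) [IsIso ((Neron.genericFibre R).map h)] (E : ArSurf.VertComp R W) (hE : Models.IsExcCurve E.ι)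
    (hEc : ¬ (h.left '' Set.range (E.ι.base : E.curve.left → W.left)).Subsingleton) :
    ∃ e : Models.specialFibre R X.left X.hom ≅ CohB1.ProjSpace 1 (ResidueField R),
      e.hom ≫ CohB1.ProjSpace.toSpec 1 (ResidueField R) =
        pullback.snd X.hom (Spec.map (CommRingCat.ofHom (algebraMap R (ResidueField R)))) := by
  obtain ⟨hXi, hXp, hXn⟩ := surf_instances hX
  obtain ⟨hWi, hWp, hWn⟩ := surf_instances hW
  haveI := hXi; haveI := hXp; haveI := hXn; haveI := hWi; haveI := hWp; haveI := hWn
  haveI := hW.2.2.2.1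
  haveI := hX.2.2.2.1
  haveI := isProper_hom h
  obtain ⟨D, hD, hDg⟩ := MinModLib.exists_image hX h E hEc
  obtain ⟨LD, hLD⟩ := MinModLib.exists_inverse_curve hX D
  obtain ⟨LE, hLE⟩ := MinModLib.exists_inverse_curve hW E
  obtain ⟨ωX, hωX⟩ := RegConLib.exists_isCanonical hX
  obtain ⟨ωW, hωW⟩ := RegConLib.exists_isCanonical hW
  obtain ⟨hker, hh1, hwD, hDD, hKD⟩ := minimal_numbers hX hg hC hH0 hgen hne D LD hLD ωX hωX
  have hEcart := VertIntLib.isEffCartier_ker hW.1 E (VertIntLib.isFibGen_of_dim hW.2.2.1.le E)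
  obtain ⟨hE1, hEE⟩ := (VertChiLib.isExcCurve_iff E hEcart hLE).1 hE
  obtain ⟨hEw, -, -⟩ := VertChiLib.dvd_inter E
  have hKE := RegConLib.inter_add_inter_cst hW E LE hLE ωW hωW
  rw [hEE, VertChiLib.cst, hE1, Nat.cast_zero, sub_zero] at hKE
  obtain ⟨hst, hnum⟩ := strict_or_same _ hW hX h le_rfl ωW hωW ωX hωX E D hD hDg hEc LE hLE LD hLD
  have hw1 : Models.wdeg R W E = 1 := by
    rcases hnum with h' | h' <;> omega
  haveI := VertIntLib.isProper_curve E
  haveI := VertIntLib.isProper_curve D
  -- the projective line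
  have hNi : PicF.IsInvertible (pb E.ι (ClSub.idealMod E.ι.ker)) :=
    AmpleDevLib.isInvertible_pb E.ι (IntMultLib.isInvertible_idealMod _ hEcart)
  have hs : Subsingleton (Coh.HH E.curve.left (Coh.structureModule E.curve.left) 1) := by
    haveI : Module.Finite (ResidueField R) (Coh.HH E.curve.left (Coh.structureModule E.curve.left) 1) :=
      CurvLib.finite_HH (k := ResidueField R) (DevissLib.isCoh_structureModule _) 1
    exact (Module.finrank_zero_iff (R := ResidueField R)).1 hE1
  have hdeg : Curv2.deg (ResidueField R) E.curve.left (pb E.ι (ClSub.idealMod E.ι.ker)) 1 = 1 := by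
    rw [VertIntLib.inter_eq_neg E hEcart hLE, hw1, Nat.cast_one, neg_inj] at hEE
    exact hEE
  obtain ⟨eP, heP⟩ := GenusZeroLib.exists_iso_of_deg_one (ResidueField R) E.dim_eq hs hNi hdeg
  -- the morphism of curves
  have hrange : Set.range (E.ι ≫ h.left) ⊆ Set.range (D.ι.base : D.curve.left → X.left) := by
    rw [Scheme.Hom.comp_base, TopCat.coe_comp, Set.range_comp]
    exact hD.ge
  let φ : E.curve.left ⟶ D.curve.left :=
    IsClosedImmersion.lift D.ι (E.ι ≫ h.left) (DvrProperLib.ker_le_ker_of_range_subset D.ι _ hrange)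
  have hφ : φ ≫ D.ι = E.ι ≫ h.left := IsClosedImmersion.lift_fac _ _ _
  haveI hres : IsClosedImmersion (Spec.map (CommRingCat.ofHom (residue R))) :=
    IsClosedImmersion.spec_of_surjective _ residue_surjective
  have hover : φ ≫ (D.curve.left ↘ Spec (CommRingCat.of (ResidueField R))) =
      E.curve.left ↘ Spec (CommRingCat.of (ResidueField R)) := by
    rw [← cancel_mono (Spec.map (CommRingCat.ofHom (residue R))), Category.assoc, VertIntLib.over_hom,
      ← Category.assoc, hφ, Category.assoc, Over.w h, VertIntLib.over_hom]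
  have hξ : φ (genericPoint E.curve.left) = genericPoint D.curve.left := D.ι.isEmbedding.injective (by
    rw [← Scheme.Hom.comp_apply, hφ]
    exact hDg.symm)
  have hsurj : Function.Surjective (φ.stalkMap (genericPoint E.curve.left)).hom := by
    refine surjective_stalk φ D.ι _ hφ _ ?_
    rw [Scheme.Hom.stalkMap_comp]
    exact (E.ι.stalkMap_surjective _).comp (ConcreteCategory.bijective_of_isIso
      (h.left.stalkMap (Models.genPtOf R W E))).2
  clear_value φ
  have hφi : IsIso φ := isIso_of_birational_vert E D φ hover hξ hsurj hw1 (hE1.trans hh1.symm)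
  -- the closed fibre
  have hover2 : φ ≫ (D.curve.left ↘ Spec (CommRingCat.of (ResidueField R))) =
      E.curve.left ↘ Spec (CommRingCat.of (ResidueField R)) := hover
  have heP2 : eP.hom ≫ CohB1.ProjSpace.toSpec 1 (ResidueField R) =
      E.curve.left ↘ Spec (CommRingCat.of (ResidueField R)) := heP
  obtain ⟨q, hq⟩ := @line_transport _ _ _ (Spec (CommRingCat.of (ResidueField R))) φ hφi eP
    (CohB1.ProjSpace.toSpec 1 (ResidueField R)) (E.curve.left ↘ Spec (CommRingCat.of (ResidueField R)))
    (D.curve.left ↘ Spec (CommRingCat.of (ResidueField R))) heP2 hover2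
  exact fibre_iso D (Spec.map (CommRingCat.ofHom (algebraMap R (ResidueField R))))
    (by rw [IsLocalRing.ResidueField.algebraMap_eq]) hker q hq

end GenusZeroModLib

end
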