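import Groth.Agent.GenusZeroModLib.Core
import Groth.Agent.GenusZeroLib.PSmooth

/-!
# Comparing minimal surfaces of genus zero
-/

set_option autoImplicit false
set_option linter.style.haveILetI false
set_option linter.unusedSectionVars false
set_option maxHeartbeats 4000000
set_option backward.isDefEq.respectTransparency false
set_option backward.isDefEq.respectTransparency.types false
universe u

open CategoryTheory CategoryTheory.Limits AlgebraicGeometry TopologicalSpace Topology IsLocalRing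
open PtBlowFactLib MinModLib

noncomputable section

namespace GenusZeroModLib

variable {R : Type u} [CommRing R] [IsDomain R] [IsDiscreteValuationRing R]

/-- The closed fibre is a projective line. -/
def FibreLine (X : Over (Spec (CommRingCat.of R))) : Prop :=
  ∃ e : Models.specialFibre R X.left X.hom ≅ CohB1.ProjSpace 1 (ResidueField R),
    e.hom ≫ CohB1.ProjSpace.toSpec 1 (ResidueField R) =
      pullback.snd X.hom (Spec.map (CommRingCat.ofHom (algebraMap R (ResidueField R))))

theorem dominate_or_line {X₁ X₂ : Over (Spec (CommRingCat.of R))} (h₁ : ArSurf.IsArithSurface R X₁)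
    (h₂ : ArSurf.IsArithSurface R X₂) {C : Scheme.{u}}
    {f : C ⟶ Spec (CommRingCat.of (FractionRing R))} {g : C ⟶ X₁.left}
    (hg : IsPullback g f X₁.hom (Neron.genPt R)) (hC : Curve.IsSmoothProperCurve (FractionRing R) C f)
    (hH0 : IsIso f.appTop) (hgen : Models.curveGenus (FractionRing R) C f = 0)
    (hne : ∀ E : ArSurf.VertComp R X₁, ¬ Models.IsExcCurve E.ι) :
    ∀ (m : ℕ) {W : Over (Spec (CommRingCat.of R))} (_hW : ArSurf.IsArithSurface R W) (f₁ : W ⟶ X₁) (f₂ : W ⟶ X₂)
      [IsIso ((Neron.genericFibre R).map f₁)] [IsIso ((Neron.genericFibre R).map f₂)],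
      (Models.fibreComponents R W).ncard ≤ m → (∃ k : X₂ ⟶ X₁, f₂ ≫ k = f₁) ∨ FibreLine X₁ := by
  intro m
  induction m using Nat.strong_induction_on with
  | _ m ih =>
  intro W hW f₁ f₂ _ _ hm
  obtain ⟨hWi, hWp, hWn⟩ := surf_instances hW
  haveI := hWi; haveI := hWp; haveI := hWn
  by_cases hf : IsIso f₂.left
  · haveI : IsIso ((Over.forget _).map f₂) := hf
    haveI := isIso_of_reflects_iso f₂ (Over.forget _)
    exact Or.inl ⟨inv f₂ ≫ f₁, IsIso.hom_inv_id_assoc f₂ f₁⟩
  obtain ⟨E, hE, w, hw⟩ := exists_contracted_exc _ hW h₂ f₂ le_rfl hf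
  by_cases hs : (f₁.left '' Set.range (E.ι.base : E.curve.left → W.left)).Subsingleton
  swap
  · exact Or.inr (p1_of_exc hW h₁ hg hC hH0 hgen hne f₁ E hE hs)
  obtain ⟨z, hz⟩ := (Set.range_nonempty E.ι.base).image f₁.left
  have hz' := hs.eq_singleton_of_mem hz
  obtain ⟨Y, b, y, hy, hY, -, hpre, hiso, hbi⟩ := exists_contraction_exc hW E hE
  haveI := hbi
  obtain ⟨g₁, hg₁, -⟩ := factor_contraction hW hY E b y hy hpre hiso h₁.2.2.2.2 f₁ ⟨z, hz'⟩
  obtain ⟨g₂, hg₂, -⟩ := factor_contraction hW hY E b y hy hpre hiso h₂.2.2.2.2 f₂ ⟨w, hw⟩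
  haveI : IsIso ((Neron.genericFibre R).map g₁) := by
    haveI : IsIso ((Neron.genericFibre R).map b ≫ (Neron.genericFibre R).map g₁) := by
      rw [← Functor.map_comp, hg₁]; infer_instance
    exact IsIso.of_isIso_comp_left ((Neron.genericFibre R).map b) _
  haveI : IsIso ((Neron.genericFibre R).map g₂) := by
    haveI : IsIso ((Neron.genericFibre R).map b ≫ (Neron.genericFibre R).map g₂) := by
      rw [← Functor.map_comp, hg₂]; infer_instance
    exact IsIso.of_isIso_comp_left ((Neron.genericFibre R).map b) _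
  obtain ⟨-, hlt⟩ := contraction_spec hW hY E b y hy hpre hiso
  refine (ih _ (lt_of_lt_of_le hlt hm) hY g₁ g₂ le_rfl).imp_left ?_
  rintro ⟨k, hk⟩
  exact ⟨k, by rw [← hg₂, Category.assoc, hk, hg₁]⟩

/-- Another model maps to a minimal one of genus zero unless the closed fibre of the latter is a line. -/
theorem map_or_line (hext : Extends R) {X X' : Over (Spec (CommRingCat.of R))}
    (hX : ArSurf.IsArithSurface R X) (hX' : ArSurf.IsArithSurface R X') {C : Scheme.{u}}
    {f : C ⟶ Spec (CommRingCat.of (FractionRing R))} {g : C ⟶ X.left} {g' : C ⟶ X'.left}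
    (hg : IsPullback g f X.hom (Neron.genPt R)) (hg' : IsPullback g' f X'.hom (Neron.genPt R))
    (hC : Curve.IsSmoothProperCurve (FractionRing R) C f)
    (hH0 : IsIso f.appTop) (hgen : Models.curveGenus (FractionRing R) C f = 0)
    (hne : ∀ E : ArSurf.VertComp R X, ¬ Models.IsExcCurve E.ι) :
    (∃ k : X' ⟶ X, g' ≫ k.left = g) ∨ FibreLine X := by
  obtain ⟨hXi, hXp, hXn⟩ := surf_instances hX
  obtain ⟨hX'i, hX'p, hX'n⟩ := surf_instances hX'
  haveI := hXi; haveI := hX'i; haveI := hX'p
  haveI := hX'.2.2.2.1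
  haveI : IsOpenImmersion (Neron.genPt R) := Groth.Agent.S3250.isOpenImmersion_genPt R
  haveI : IsOpenImmersion g' := MorphismProperty.of_isPullback (P := @IsOpenImmersion) hg'.flip inferInstance
  let V := g'.opensRange
  have hVne : (V : Set X'.left).Nonempty := by
    obtain ⟨a, ha⟩ : ∃ a, g' a = genericPoint X'.left := by
      have h : X'.hom (genericPoint X'.left) ∈ Set.range (Neron.genPt R) := by
        rw [RelMinSmLib.range_genPt, VertIntLib.genericPoint_over]; rfl
      obtain ⟨t, ht⟩ := h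
      obtain ⟨p, hp1, -⟩ := Scheme.Pullback.exists_preimage_pullback (f := X'.hom) (g := Neron.genPt R)
        (genericPoint X'.left) t ht.symm
      exact ⟨hg'.isoPullback.inv p, (congrArg (fun q => q p) (congrArg (·.base) hg'.isoPullback_inv_fst)).trans hp1⟩
    exact ⟨_, a, ha⟩
  let φ : (V : Scheme.{u}) ⟶ X.left := g'.isoOpensRange.inv ≫ g
  have hφ : φ ≫ X.hom = V.ι ≫ X'.hom := by
    rw [← Iso.cancel_iso_hom_left g'.isoOpensRange]
    simp only [φ, Category.assoc, Iso.hom_inv_id_assoc]
    rw [hg.w, ← hg'.w, ← Category.assoc, Scheme.Hom.isoOpensRange_hom_ι]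
  obtain ⟨W₀, w, h, hw, hh, hagree⟩ := hext X' hX' X hX.2.2.2.2 V hVne φ hφ
  obtain ⟨hW, hwi⟩ := isArithSurface_of_seq w hw X'.hom (w ≫ X'.hom) rfl hX'
  let f₂ : Over.mk (w ≫ X'.hom) ⟶ X' := Over.homMk w rfl
  let f₁ : Over.mk (w ≫ X'.hom) ⟶ X := Over.homMk h hh
  haveI : IsIso ((Neron.genericFibre R).map f₂) := hwi
  let F := ((Neron.genericFibre R).map f₂).left
  haveI : IsIso F := inferInstanceAs (IsIso ((Over.forget _).map ((Neron.genericFibre R).map f₂)))
  let gW : C ⟶ W₀ := (hg'.isoPullback ≪≫ (asIso F).symm).hom ≫ pullback.fst (w ≫ X'.hom) (Neron.genPt R)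
  have hF1 : F ≫ pullback.fst X'.hom (Neron.genPt R) = pullback.fst (w ≫ X'.hom) (Neron.genPt R) ≫ w := by
    simp [F, f₂, Neron.genericFibre, Over.pullback]
  have hF2 : F ≫ pullback.snd X'.hom (Neron.genPt R) = pullback.snd (w ≫ X'.hom) (Neron.genPt R) := by
    simp [F, f₂, Neron.genericFibre, Over.pullback]
  have hgW : gW ≫ w = g' := by
    simp only [gW, Iso.trans_hom, Iso.symm_hom, asIso_inv, Category.assoc]
    rw [← hF1, IsIso.inv_hom_id_assoc, hg'.isoPullback_hom_fst]
  have hgWp : IsPullback gW f (w ≫ X'.hom) (Neron.genPt R) := by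
    refine (IsPullback.of_hasPullback (w ≫ X'.hom) (Neron.genPt R)).of_iso (hg'.isoPullback ≪≫ (asIso F).symm).symm
      (Iso.refl _) (Iso.refl _) (Iso.refl _) ?_ ?_ (by simp) (by simp)
    · rw [Iso.symm_hom, Iso.refl_hom, Category.comp_id, Iso.eq_inv_comp]
    · rw [Iso.symm_hom, Iso.refl_hom, Category.comp_id, Iso.eq_inv_comp, Iso.trans_hom, Iso.symm_hom, asIso_inv,
        Category.assoc, ← hF2, IsIso.inv_hom_id_assoc, hg'.isoPullback_hom_snd]
  have hgWh : gW ≫ h = g := by
    have hr : Set.range gW ⊆ Set.range (w ⁻¹ᵁ V).ι := by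
      rw [Scheme.Opens.range_ι]
      rintro _ ⟨c, rfl⟩
      exact ⟨c, (congrArg (fun q : C ⟶ X'.left => q c) hgW).symm⟩
    let l := IsOpenImmersion.lift (w ⁻¹ᵁ V).ι gW hr
    have hl : l ≫ (w ⁻¹ᵁ V).ι = gW := IsOpenImmersion.lift_fac _ _ _
    have hl' : l ≫ (w ∣_ V) = g'.isoOpensRange.hom := by
      rw [← cancel_mono V.ι, Category.assoc, morphismRestrict_ι, ← Category.assoc, hl, hgW,
        Scheme.Hom.isoOpensRange_hom_ι]
    rw [← hl, Category.assoc, hagree, ← Category.assoc, hl', Iso.hom_inv_id_assoc]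
  haveI : IsIso ((Neron.genericFibre R).map f₁) :=
    isIso_generic_of_comp (X := Over.mk (w ≫ X'.hom)) f₁ hgWp (by rw [show f₁.left = h from rfl, hgWh]; exact hg)
  refine (dominate_or_line hX hX' hg hC hH0 hgen hne _ hW f₁ f₂ le_rfl).imp_left ?_
  rintro ⟨k, hk⟩
  refine ⟨k, ?_⟩
  have hk' : w ≫ k.left = h := congrArg CommaMorphism.left hk
  rw [← hgW, Category.assoc, hk', hgWh]

/-- Two minimal surfaces of genus zero are isomorphic unless the closed fibre is a line. -/
theorem iso_or_line (hext : Extends R) {X X' : Over (Spec (CommRingCat.of R))}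
    (hX : ArSurf.IsArithSurface R X) (hX' : ArSurf.IsArithSurface R X') {C : Scheme.{u}}
    {f : C ⟶ Spec (CommRingCat.of (FractionRing R))} {g : C ⟶ X.left} {g' : C ⟶ X'.left}
    (hg : IsPullback g f X.hom (Neron.genPt R)) (hg' : IsPullback g' f X'.hom (Neron.genPt R))
    (hC : Curve.IsSmoothProperCurve (FractionRing R) C f)
    (hH0 : IsIso f.appTop) (hgen : Models.curveGenus (FractionRing R) C f = 0)
    (hne : ∀ E : ArSurf.VertComp R X, ¬ Models.IsExcCurve E.ι)
    (hne' : ∀ E : ArSurf.VertComp R X', ¬ Models.IsExcCurve E.ι) :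
    (∃ k : X' ≅ X, g' ≫ k.hom.left = g) ∨ FibreLine X := by
  refine (map_or_line hext hX hX' hg hg' hC hH0 hgen hne).imp_left ?_
  rintro ⟨k, hk⟩
  have hgk : IsPullback (g' ≫ k.left) f X.hom (Neron.genPt R) := by rw [hk]; exact hg
  haveI : IsIso k := (relMinimal_of_no_exc hX' hne').2.2.2 X hX.1 hX.2.2.2.2 hX.2.2.2.1 k
    (isIso_generic_of_comp k hg' hgk)
  exact ⟨asIso k, hk⟩

theorem exists_fromSpec_lift {L : Type u} [Field L] {S : Scheme.{u}} (s : Spec (CommRingCat.of L) ⟶ S)
    [IsPreimmersion s] (t : Spec (CommRingCat.of L)) :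
    ∃ l : Spec (S.residueField (s t)) ⟶ Spec (CommRingCat.of L), l ≫ s = S.fromSpecResidueField (s t) := by
  haveI : IsIso (s.residueFieldMap t) := by
    refine (ConcreteCategory.isIso_iff_bijective _).2 ⟨RingHom.injective _, ?_⟩
    refine Ideal.Quotient.lift_surjective_of_surjective _ _ ?_
    exact Ideal.Quotient.mk_surjective.comp (s.stalkMap_surjective t)
  exact ⟨inv (Spec.map (s.residueFieldMap t)) ≫ (Spec (CommRingCat.of L)).fromSpecResidueField t, by
    rw [Category.assoc, IsIso.inv_comp_eq, Scheme.Hom.SpecMap_residueFieldMap_fromSpecResidueField]⟩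

/-- Smoothness over a valuation ring is read on the two fibres. -/
theorem smooth_of_two_fibres {X : Scheme.{u}} (p : X ⟶ Spec (CommRingCat.of R)) [Flat p]
    [LocallyOfFinitePresentation p]
    (h₁ : Smooth (pullback.snd p (Spec.map (CommRingCat.ofHom (algebraMap R (FractionRing R))))))
    (h₂ : Smooth (pullback.snd p (Spec.map (CommRingCat.ofHom (algebraMap R (ResidueField R)))))) : Smooth p := by
  refine Smooth.of_smooth_fiberToSpecResidueField p fun y => ?_
  suffices H : ∀ {L : Type u} [Field L] (s : Spec (CommRingCat.of L) ⟶ Spec (CommRingCat.of R)) [IsPreimmersion s],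
      Smooth (pullback.snd p s) → y ∈ Set.range s → Smooth (p.fiberToSpecResidueField y) by
    haveI : IsClosedImmersion (Spec.map (CommRingCat.ofHom (algebraMap R (ResidueField R)))) :=
      IsClosedImmersion.spec_of_surjective _ residue_surjective
    haveI : IsOpenImmersion (Spec.map (CommRingCat.ofHom (algebraMap R (FractionRing R)))) :=
      Groth.Agent.S3250.isOpenImmersion_genPt R
    by_cases hy : y = closedPoint R
    · refine H _ h₂ ⟨closedPoint _, hy ▸ ?_⟩
      exact IsLocalRing.comap_closedPoint (residue R)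
    · refine H _ h₁ ?_
      have e := RelMinSmLib.range_genPt (R := R)
      rw [Neron.genPt] at e
      rw [e]
      refine Set.mem_singleton_iff.2 ?_
      by_contra hne
      have h1 : y.asIdeal ≠ ⊥ := fun h => hne (PrimeSpectrum.ext (h.trans (le_bot_iff.1 fun r hr =>
        h.le ((PrimeSpectrum.le_iff_specializes _ y).2 (RelMinSmLib.eta_specializes y) hr)).symm))
      exact hy (PrimeSpectrum.ext (IsLocalRing.eq_maximalIdeal (y.isPrime.isMaximal h1)))
  intro L _ s _ hs hy
  obtain ⟨t, rfl⟩ := hy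
  obtain ⟨l, hl⟩ := exists_fromSpec_lift s t
  let k : p.fiber (s t) ⟶ pullback p s :=
    pullback.lift (p.fiberι (s t)) (p.fiberToSpecResidueField (s t) ≫ l)
      (by rw [Category.assoc, hl]; exact p.fiber_fac (s t))
  suffices hsq : IsPullback k (p.fiberToSpecResidueField (s t)) (pullback.snd p s) l from
    MorphismProperty.of_isPullback hsq hs
  refine IsPullback.of_right (h₁₂ := pullback.fst p s) (h₂₂ := s) ?_ (pullback.lift_snd ..)
    (IsPullback.of_hasPullback p s)
  rw [pullback.lift_fst, hl]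
  exact IsPullback.of_hasPullback _ _

theorem smooth_of_fibreLine {X : Over (Spec (CommRingCat.of R))} [Flat X.hom] [LocallyOfFinitePresentation X.hom]
    {C : Scheme.{u}} {f : C ⟶ Spec (CommRingCat.of (FractionRing R))} {g : C ⟶ X.left}
    (hg : IsPullback g f X.hom (Spec.map (CommRingCat.ofHom (algebraMap R (FractionRing R))))) (hf : Smooth f)
    (h : FibreLine X) : Smooth X.hom := by
  obtain ⟨e, he⟩ := h
  haveI : Smooth (CohB1.ProjSpace.toSpec 1 (ResidueField R)) := GenusZeroLib.smooth_toSpec 1 (ResidueField R)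
  refine smooth_of_two_fibres X.hom ?_ ?_
  · rw [← hg.isoPullback_inv_snd]
    haveI := hf
    infer_instance
  · rw [← he]
    exact (MorphismProperty.cancel_left_of_respectsIso @Smooth e.hom _).2 inferInstance

end GenusZeroModLib

end
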