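import Groth.Agent.MinModLib.Canon
import Groth.Agent.MinModLib.PullClass
import Groth.Agent.MinModLib.Images
import Groth.Agent.S8730

/-!
# Canonical degree or self-intersection along birational morphisms
-/

set_option autoImplicit false
set_option linter.style.haveILetI false
set_option linter.unusedSectionVars false
set_option maxHeartbeats 2000000
set_option backward.isDefEq.respectTransparency false
set_option backward.isDefEq.respectTransparency.types false
universe u

open CategoryTheory CategoryTheory.Limits AlgebraicGeometry TopologicalSpace Topology IsLocalRing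
open CubeConsLib PtBlowFactLib MinModLib

noncomputable section

namespace GenusZeroModLib

variable {R : Type u} [CommRing R] [IsDomain R] [IsDiscreteValuationRing R]

theorem isIso_stalk_comp {A B C : Scheme.{u}} (g : A ⟶ B) (h : B ⟶ C) (f : A ⟶ C) (e : g ≫ h = f) (x : A)
    (y : B) (hy : g x = y) (hg : IsIso (g.stalkMap x)) (hh : IsIso (h.stalkMap y)) : IsIso (f.stalkMap x) := by
  subst e hy
  haveI := hg; haveI := hh
  rw [Scheme.Hom.stalkMap_comp]
  infer_instance

/-- Along a birational morphism a curve which is not contracted maps birationally, and either gains canonical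
degree or keeps its self-intersection. -/
theorem strict_or_same : ∀ (m : ℕ) {X Y : Over (Spec (CommRingCat.of R))}
    (_hX : ArSurf.IsArithSurface R X) (_hY : ArSurf.IsArithSurface R Y) (f : X ⟶ Y)
    [IsIso ((Neron.genericFibre R).map f)],
    {Z ∈ Models.fibreComponents R X | (f.left '' Z).Subsingleton}.ncard ≤ m →
    ∀ (ωX : X.left.Modules) (_hωX : Canon.IsCanonical X.hom ωX) (ωY : Y.left.Modules)
      (_hωY : Canon.IsCanonical Y.hom ωY) (C : ArSurf.VertComp R X) (D : ArSurf.VertComp R Y),
      Set.range (D.ι.base : D.curve.left → Y.left) = f.left '' Set.range (C.ι.base : C.curve.left → X.left) →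
      Models.genPtOf R Y D = f.left (Models.genPtOf R X C) →
      ¬ (f.left '' Set.range (C.ι.base : C.curve.left → X.left)).Subsingleton →
      ∀ (LC : X.left.Modules) (_hLC : ClSub.IsInverseOf LC (ClSub.idealMod C.ι.ker)) (LD : Y.left.Modules)
        (_hLD : ClSub.IsInverseOf LD (ClSub.idealMod D.ι.ker)),
      IsIso (f.left.stalkMap (Models.genPtOf R X C)) ∧
        (ArSurf.inter R Y ωY D + 1 ≤ ArSurf.inter R X ωX C ∨
          ArSurf.inter R X LC C = ArSurf.inter R Y LD D) := by
  intro m
  induction m using Nat.strong_induction_on with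
  | _ m ih =>
  intro X Y hX hY f _ hm ωX hωX ωY hωY C D hD hgD hC LC hLC LD hLD
  obtain ⟨hXi, hXp, hXn⟩ := surf_instances hX
  obtain ⟨hYi, hYp, hYn⟩ := surf_instances hY
  haveI := hXi; haveI := hXp; haveI := hXn; haveI := hYi; haveI := hYp; haveI := hYn
  haveI := hX.2.2.2.1
  haveI := hY.2.2.2.1
  have hωYi : PicF.IsInvertible ωY := RegConLib.isInvertible_of_isCanonical hωY
  by_cases hf : IsIso f.left
  · haveI := hf
    refine ⟨inferInstance, Or.inr ?_⟩
    have hDc := VertIntLib.isEffCartier_ker hY.1 D (VertIntLib.isFibGen_of_dim hY.2.2.1.le D)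
    have hLDi : PicF.IsInvertible LD := VertIntLib.isInvertible_inverse hDc hLD
    rw [← inter_pullback_birat f C D hD.ge hgD inferInstance hLDi]
    refine VertIntLib.inter_congr ?_ C
    have hcl := pull_ideal_class f.left D.ι hDc
      ⟨Set.range (C.ι.base : C.curve.left → X.left), C.ι.isClosedEmbedding.isClosed_range⟩ (by
        show Set.range (C.ι.base : C.curve.left → X.left) = f.left ⁻¹' Set.range (D.ι.base : D.curve.left → Y.left)
        rw [hD]
        exact (Set.preimage_image_eq _ (fun a b h => f.left.homeomorph.injective h)).symm)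
    have hker : Scheme.IdealSheafData.vanishingIdeal
        ⟨Set.range (C.ι.base : C.curve.left → X.left), C.ι.isClosedEmbedding.isClosed_range⟩ = C.ι.ker := by
      rw [← show (⊥ : C.curve.left.IdealSheafData).map C.ι = C.ι.ker from
          (by rw [← Scheme.Hom.ker_eq_bot_of_isIso (𝟙 C.curve.left), ← Scheme.Hom.ker_comp, Category.id_comp]),
        ← Scheme.nilradical_eq_bot (X := C.curve.left), ← Scheme.IdealSheafData.vanishingIdeal_top,
        Scheme.IdealSheafData.map_vanishingIdeal]
      congr 1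
      refine Closeds.ext ?_
      show Set.range C.ι = closure (C.ι '' Set.univ)
      rw [Set.image_univ, C.ι.isClosedEmbedding.isClosed_range.closure_eq]
    rw [hker] at hcl
    have h1 : cl LD * cl (ClSub.idealMod D.ι.ker) = 1 := by rw [← cl_tensor]; exact cl_eq_one_iff.2 hLD
    have h2 : cl LC * cl (ClSub.idealMod C.ι.ker) = 1 := by rw [← cl_tensor]; exact cl_eq_one_iff.2 hLC
    have h3 := congrArg (pull f.left) h1
    rw [map_mul, map_one, hcl] at h3
    rw [← pull_cl]
    calc cl LC = (pull f.left (cl LD) * cl (ClSub.idealMod C.ι.ker)) * cl LC := by rw [h3, one_mul]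
      _ = pull f.left (cl LD) * (cl LC * cl (ClSub.idealMod C.ι.ker)) := by rw [mul_assoc, mul_comm (cl LC)]
      _ = pull f.left (cl LD) := by rw [h2, mul_one]
  obtain ⟨y, hy, hys, Y', π, g, p, hπ, hp, hgp, hY', hgi, F, Γ₀, hF, -, hlt⟩ := MinModLib.step hX hY f hf
  haveI := hgi
  obtain ⟨hY'i, hY'p, hY'n⟩ := surf_instances hY'
  haveI := hY'i; haveI := hY'p; haveI := hY'n
  haveI := hY'.2.2.2.1
  haveI := isProper_hom g
  have hfun : ∀ z, f.left z = π (g.left z) := fun z => by
    rw [← hgp, Over.comp_left, hp]; rfl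
  have hgC : ¬ (g.left '' Set.range (C.ι.base : C.curve.left → X.left)).Subsingleton := fun h => hC (by
    rw [show (f.left : X.left → Y.left) = π ∘ g.left from funext hfun, Set.image_comp]
    exact h.image _)
  obtain ⟨D', hD', hD'g⟩ := exists_image hY' g C hgC
  have hne : Set.range (D'.ι.base : D'.curve.left → (Over.mk (π ≫ Y.hom)).left) ≠
      Set.range (F.ι.base : F.curve.left → (Over.mk (π ≫ Y.hom)).left) := fun h => hC (by
    refine Set.Subsingleton.anti (Set.subsingleton_singleton (a := y)) ?_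
    rintro _ ⟨z, hz, rfl⟩
    rw [hfun]
    exact hF.le (h.le (hD'.ge ⟨z, hz, rfl⟩)))
  have hFc := VertIntLib.isEffCartier_ker hY'.1 F (VertIntLib.isFibGen_of_dim hY'.2.2.1.le F)
  have hD'c := VertIntLib.isEffCartier_ker hY'.1 D' (VertIntLib.isFibGen_of_dim hY'.2.2.1.le D')
  obtain ⟨LF, hLF⟩ := MinModLib.exists_inverse_curve hY' F
  obtain ⟨LD', hLD'⟩ := MinModLib.exists_inverse_curve hY' D'
  have hLFi : PicF.IsInvertible LF := VertIntLib.isInvertible_inverse hFc hLF
  obtain ⟨ωY', hωY'⟩ := RegConLib.exists_isCanonical hY'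
  haveI : IsIso (p.left ∣_ (⟨{y}ᶜ, hy.isOpen_compl⟩ : Y.left.Opens)) := by
    rw [hp]; exact BlowRegLib.isIso_off_centre hπ _ (comap_eq_bot_off hy)
  have hgy : p.left (Models.genPtOf R (Over.mk (π ≫ Y.hom)) D') ≠ y :=
    (image_not_point hY' p y hy F D' (by rw [hp]; exact hF.symm) hne).1
  have hst' := isIso_stalkMap_off p.left hy hgy
  have hDD' : Set.range (D.ι.base : D.curve.left → Y.left) =
      p.left '' Set.range (D'.ι.base : D'.curve.left → (Over.mk (π ≫ Y.hom)).left) := by
    rw [hD, hD', hp, ← Set.image_comp]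
    exact Set.image_congr fun z _ => hfun z
  have hgD' : Models.genPtOf R Y D = p.left (Models.genPtOf R (Over.mk (π ≫ Y.hom)) D') := by
    rw [hgD, hD'g, hfun, hp]; rfl
  obtain ⟨hst, hih⟩ := ih _ (lt_of_lt_of_le hlt hm) hX hY' g le_rfl ωX hωX ωY' hωY' C D' hD' hD'g hgC LC hLC LD' hLD'
  refine ⟨isIso_stalk_comp g.left p.left f.left (by rw [← Over.comp_left, hgp]) _ _ hD'g.symm hst hst', ?_⟩
  obtain ⟨a⟩ := CanonBlowLib.canonical_blowUp Y hY y hy hys π hπ F hF LF hLF ωY hωY ωY' hωY'
  have hK : ArSurf.inter R (Over.mk (π ≫ Y.hom)) ωY' D' =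
      ArSurf.inter R Y ωY D + ArSurf.inter R (Over.mk (π ≫ Y.hom)) LF D' := by
    rw [← inter_pullback_birat p D' D hDD'.ge hgD' hst' hωYi, ← VertIntLib.inter_tensor
      (AmpleDevLib.isInvertible_pb p.left hωYi) hLFi]
    refine VertIntLib.inter_congr ?_ D'
    rw [hp]
    exact cl_eq_iff.2 ⟨a⟩
  have hnonneg := inter_nonneg_of_ne hY' F D' hne LF hLF
  have hle : ArSurf.inter R (Over.mk (π ≫ Y.hom)) ωY' D' ≤ ArSurf.inter R X ωX C := by
    rw [← inter_pullback_birat g C D' hD'.ge hD'g hst (RegConLib.isInvertible_of_isCanonical hωY')]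
    exact MinModLib.inter_canonical_le _ hX hY' g le_rfl ωX hωX ωY' hωY' C hgC
  rcases hnonneg.lt_or_eq with hpos | hzero
  · exact Or.inl (by omega)
  rcases hih with h | h
  · exact Or.inl (by omega)
  refine Or.inr (h.trans ?_)
  obtain ⟨c, hc, hcl⟩ := MinModLib.pullback_curve π Y.hom hY y hy hys hπ F D' hF.symm hne D
    (hDD'.trans (by rw [hp]; rfl)) LF LD' hLF hLD' LD hLD
  have hsymm := Groth.Agent.S8730.result R (Over.mk (π ≫ Y.hom)) hY' F D' (fun h => hne h.symm) LF LD' hLF hLD'
  rw [hsymm, ← hzero] at hc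
  have hw := (VertChiLib.dvd_inter F).1
  have hself : ArSurf.inter R (Over.mk (π ≫ Y.hom)) LF F ≠ 0 := by
    obtain ⟨hexc, -, -, -⟩ := BlowRegLib.arith_exc_numbers hY hy hπ F hF hys LF hLF
    rw [((VertChiLib.isExcCurve_iff (X := Over.mk (π ≫ Y.hom)) F hFc hLF).1 hexc).2]
    omega
  have hc0 : c = 0 := by
    rcases mul_eq_zero.1 hc with h0 | h0
    · exact_mod_cast h0
    · exact absurd (neg_eq_zero.1 h0) hself
  subst hc0
  rw [← inter_pullback_birat p D' D hDD'.ge hgD' hst'
    (VertIntLib.isInvertible_inverse (VertIntLib.isEffCartier_ker hY.1 D (VertIntLib.isFibGen_of_dim hY.2.2.1.le D)) hLD)]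
  refine (VertIntLib.inter_congr ?_ D').symm
  rw [hp]
  refine hcl.trans ?_
  rw [cl_tensor, VertIntLib.cl_tensorPow, pow_zero, mul_one]

end GenusZeroModLib

end
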